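import Mathlib

/-! Double counting for families with pairwise intersections of constant size. -/

set_option autoImplicit false

noncomputable section

namespace Groth.Agent.HarbCount

universe u v

variable (P : Type u) (ι : Type v) [Fintype ι] (inc : P → ι → Prop) (h : ℕ)

open scoped Classical in
theorem count_pairs (hfin : ∀ i j : ι, i ≠ j → {p : P | inc p i ∧ inc p j}.Finite)
    (hcount : ∀ i j : ι, i ≠ j → {p : P | inc p i ∧ inc p j}.ncard = h) :
    ∃ S : Finset P, (∀ p, p ∈ S ↔ 2 ≤ Nat.card {j : ι // inc p j}) ∧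
      ∑ p ∈ S, Nat.card {j : ι // inc p j} * (Nat.card {j : ι // inc p j} - 1) =
        h * (Fintype.card ι * (Fintype.card ι - 1)) := by
  have hk : ∀ p, Nat.card {j : ι // inc p j} = (Finset.univ.filter (inc p)).card := fun p => by
    rw [Nat.card_eq_fintype_card, Fintype.card_subtype]
  let D : Finset (ι × ι) := Finset.univ.offDiag
  have hS : (⋃ q ∈ D, {p | inc p q.1 ∧ inc p q.2}).Finite :=
    Set.Finite.biUnion (Finset.finite_toSet D) fun q hq => hfin _ _ (Finset.mem_offDiag.mp hq).2.2
  refine ⟨hS.toFinset, fun p => ?_, ?_⟩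
  · rw [hS.mem_toFinset, hk]
    constructor
    · intro hp
      obtain ⟨q, hq, h1, h2⟩ := Set.mem_iUnion₂.mp hp
      exact Finset.one_lt_card.mpr ⟨q.1, by simp [h1], q.2, by simp [h2], (Finset.mem_offDiag.mp hq).2.2⟩
    · intro hp
      obtain ⟨a, ha, b, hb, hab⟩ := Finset.one_lt_card.mp hp
      exact Set.mem_iUnion₂.mpr ⟨(a, b), Finset.mem_offDiag.mpr ⟨Finset.mem_univ _, Finset.mem_univ _, hab⟩,
        (Finset.mem_filter.mp ha).2, (Finset.mem_filter.mp hb).2⟩
  · calc ∑ p ∈ hS.toFinset, Nat.card {j : ι // inc p j} * (Nat.card {j : ι // inc p j} - 1)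
        = ∑ p ∈ hS.toFinset, (D.filter fun q => inc p q.1 ∧ inc p q.2).card := by
          refine Finset.sum_congr rfl fun p _ => ?_
          rw [hk, Nat.mul_sub_one, ← Finset.offDiag_card]
          congr 1
          ext ⟨a, b⟩
          simp only [D, Finset.mem_offDiag, Finset.mem_filter, Finset.mem_univ, true_and]
          tauto
      _ = ∑ q ∈ D, (hS.toFinset.filter fun p => inc p q.1 ∧ inc p q.2).card :=
          Finset.sum_card_bipartiteAbove_eq_sum_card_bipartiteBelow _
      _ = ∑ q ∈ D, h := by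
          refine Finset.sum_congr rfl fun q hq => ?_
          have hne := (Finset.mem_offDiag.mp hq).2.2
          rw [← hcount _ _ hne, Set.ncard_eq_toFinset_card _ (hfin _ _ hne)]
          congr 1
          ext p
          simp only [Finset.mem_filter, Set.Finite.mem_toFinset, Set.mem_setOf_eq]
          exact ⟨fun hp => hp.2, fun hp => ⟨Set.mem_iUnion₂.mpr ⟨q, hq, hp⟩, hp⟩⟩
      _ = h * (Fintype.card ι * (Fintype.card ι - 1)) := by
          rw [Finset.sum_const, smul_eq_mul, Finset.offDiag_card, Finset.card_univ, Nat.mul_sub_one, mul_comm]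

end Groth.Agent.HarbCount
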